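import Cfsg.Agent.H125.PC.Crit
import Cfsg.Agent.H594.Cyclic
import Cfsg.Agent.H770.CY.Defs

/-!
# S4829, lemma L6: it is enough to have the witness on the normal `p`-complement (helper362)

`rowA_of_compl` : `RowA p S` follows, if for every `X ≤ A` as in `Amb` (`X / Inn S` a `p'`-group, `X` normal in `A`,
`|A : X| = p ^ k`) there is an `A`-invariant witness `Ψ` on `X`.

Proof: count modulo `p` the constituents of `Ψ` in the principal block of `X`: there is an `A`-invariant constituent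
`η ∈ B₀(X)` of degree prime to `p`; the canonical extension of `η` to `A` is the witness on `A`.
-/

set_option autoImplicit false
set_option linter.unusedSectionVars false

open Subgroup
open scoped ComplexConjugate

namespace Cfsg.Agent.H362.CY

open Cfsg
open Cfsg.Agent.Blocks.Blau Cfsg.Agent.Blocks.Local Cfsg.Agent.Characters Cfsg.Agent.H145.BR
open Cfsg.Agent.H770.CY

universe u v

attribute [local instance] Cfsg.Agent.H687.autAct

section cyc

variable {p : ℕ} {H : Type u} [Group H] [Finite H] {S : Type v} [Group S] [Fintype S]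

/-- the inner products with a conjugate by a power -/
theorem inner_pow' {H : Type u} [Group H] [Fintype H] {k : ℕ} (hk : k.Coprime (Nat.card H)) (f g : H → ℂ) :
    classInner (fun n : H => f (n ^ k)) (fun n : H => g (n ^ k)) = classInner f g :=
  H125.PC.inner_pow hk f g

/-- the constituents of a character, multiplicity free on `S` with cyclotomic constituents -/
theorem constituent [Fintype H] (j : S →* H) (hcard : Nat.card S ∣ Nat.card H) {Ψ : H → ℂ} (hΨ : IsCharacter H Ψ)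
    (hcyc : ∀ k : ℕ, Nat.Coprime k (Nat.card H) → k ≡ 1 [MOD p] → ∀ g : H, Ψ (g ^ k) = Ψ g)
    (hmf : ∀ θ : IrrCharacter S, classInner (fun s : S => Ψ (j s)) (θ : S → ℂ) = 0 ∨
      (classInner (fun s : S => Ψ (j s)) (θ : S → ℂ) = 1 ∧ (θ : S → ℂ) ≠ (fun _ => 1) ∧ Cyc p (θ : S → ℂ)))
    (χ : IrrCharacter H) (hχ : classInner Ψ (χ : H → ℂ) ≠ 0) :
    Cyc p (χ : H → ℂ) ∧ ∀ θ : IrrCharacter S, classInner (fun s : S => (χ : H → ℂ) (j s)) (θ : S → ℂ) = 0 ∨
      (classInner (fun s : S => (χ : H → ℂ) (j s)) (θ : S → ℂ) = 1 ∧ (θ : S → ℂ) ≠ (fun _ => 1) ∧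
        Cyc p (θ : S → ℂ)) := by
  classical
  have : Finite (IrrCharacter H) := Core.finite_irr
  have := Fintype.ofFinite (IrrCharacter H)
  obtain ⟨m, hm⟩ := Core.isCharacter_iff.1 hΨ
  have hm' : ∀ g, Ψ g = ∑ χ : IrrCharacter H, (m χ : ℂ) * (χ : H → ℂ) g := by
    intro g
    conv_lhs => rw [hm]
    rw [Finset.sum_apply]
    refine Finset.sum_congr rfl fun χ _ => ?_
    rw [Pi.smul_apply, nsmul_eq_mul]
  have hmul : ∀ χ : IrrCharacter H, classInner Ψ (χ : H → ℂ) = (m χ : ℂ) := by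
    intro χ
    rw [hm, Core.classInner_sum_left, Finset.sum_eq_single χ]
    · rw [← Nat.cast_smul_eq_nsmul ℂ, Core.classInner_smul_left, Core.classInner_irr_self χ.2, mul_one]
    · intro ψ _ hψ
      rw [← Nat.cast_smul_eq_nsmul ℂ, Core.classInner_smul_left,
        Core.classInner_irr_ne ψ.2 χ.2 (fun h => hψ (Subtype.ext h)), mul_zero]
    · intro h
      exact absurd (Finset.mem_univ _) h
  have hres : ∀ χ : IrrCharacter H, IsCharacter S (fun s : S => (χ : H → ℂ) (j s)) := fun χ =>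
    Core.isCharacter_comp j (Core.isIrr_isCharacter χ.2)
  have hnat : ∀ (χ : IrrCharacter H) (θ : IrrCharacter S), ∃ n : ℕ,
      classInner (fun s : S => (χ : H → ℂ) (j s)) (θ : S → ℂ) = n := fun χ θ =>
    Core.classInner_isNat (hres χ) (Core.isIrr_isCharacter θ.2)
  choose r hr using hnat
  have hΨN : ∀ θ : IrrCharacter S, classInner (fun s : S => Ψ (j s)) (θ : S → ℂ) =
      ((∑ χ : IrrCharacter H, m χ * r χ θ : ℕ) : ℂ) := by
    intro θ
    have h1 : (fun s : S => Ψ (j s)) = ∑ χ : IrrCharacter H, (m χ : ℂ) • (fun s : S => (χ : H → ℂ) (j s)) := by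
      funext n
      rw [Finset.sum_apply, hm' (j n)]
      rfl
    rw [h1, Core.classInner_sum_left, Nat.cast_sum]
    refine Finset.sum_congr rfl fun χ _ => ?_
    rw [Core.classInner_smul_left, hr, Nat.cast_mul]
  have hχm : m χ ≠ 0 := by
    intro h
    apply hχ
    rw [hmul, h, Nat.cast_zero]
  have key : ∀ θ : IrrCharacter S, r χ θ ≠ 0 → (∑ ψ : IrrCharacter H, m ψ * r ψ θ = 1) ∧ r χ θ = 1 ∧
      (θ : S → ℂ) ≠ (fun _ => 1) ∧ Cyc p (θ : S → ℂ) := by
    intro θ hθ
    have hle : m χ * r χ θ ≤ ∑ ψ : IrrCharacter H, m ψ * r ψ θ :=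
      Finset.single_le_sum (f := fun ψ : IrrCharacter H => m ψ * r ψ θ) (fun _ _ => Nat.zero_le _)
        (Finset.mem_univ χ)
    have hpos : 0 < m χ * r χ θ := Nat.mul_pos (Nat.pos_of_ne_zero hχm) (Nat.pos_of_ne_zero hθ)
    rcases hmf θ with h | ⟨h1, h2, h3⟩
    · exfalso
      rw [hΨN] at h
      have h' : (∑ ψ : IrrCharacter H, m ψ * r ψ θ) = 0 := by exact_mod_cast h
      omega
    · rw [hΨN] at h1
      have h' : (∑ ψ : IrrCharacter H, m ψ * r ψ θ) = 1 := by exact_mod_cast h1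
      refine ⟨h', ?_, h2, h3⟩
      have h4 : m χ * r χ θ = 1 := by omega
      exact Nat.dvd_one.1 (Dvd.intro_left _ h4)
  refine ⟨?_, fun θ => ?_⟩
  · obtain ⟨θ, hθ⟩ : ∃ θ : IrrCharacter S, r χ θ ≠ 0 := by
      by_contra hcon
      push Not at hcon
      have : Finite (IrrCharacter S) := Core.finite_irr
      have := Fintype.ofFinite (IrrCharacter S)
      have h1 := Core.classFunction_eq_sum (Core.isCharacter_isClassFunction (hres χ))
      have h2 := congrFun h1 1
      rw [Finset.sum_apply, Finset.sum_eq_zero] at h2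
      · rw [map_one] at h2
        exact apply_one_ne_zero χ h2
      · intro θ _
        rw [Pi.smul_apply, hr, hcon, Nat.cast_zero, zero_smul]
    obtain ⟨hone', -, -, hθc⟩ := key θ hθ
    intro k hk hkp
    set χ' : IrrCharacter H := ⟨fun g => (χ : H → ℂ) (g ^ k), Cfsg.Agent.Characters.GaloisIrr.isIrr_pow hk χ.2⟩ with hχ'
    by_cases heq : χ' = χ
    · intro g
      exact congrFun (congrArg Subtype.val heq) g
    · exfalso
      have h1 : m χ' = m χ := by
        have h2 : classInner Ψ (χ' : H → ℂ) = classInner Ψ (χ : H → ℂ) := by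
          rw [← inner_pow' hk Ψ (χ : H → ℂ)]
          congr 1
          funext g
          exact (hcyc k hk hkp g).symm
        rw [hmul, hmul] at h2
        exact_mod_cast h2
      have h3 : r χ' θ = r χ θ := by
        have hkN : k.Coprime (Nat.card S) := hk.coprime_dvd_right hcard
        have h2 : classInner (fun s : S => (χ' : H → ℂ) (j s)) (θ : S → ℂ) =
            classInner (fun s : S => (χ : H → ℂ) (j s)) (θ : S → ℂ) := by
          rw [← inner_pow' hkN (fun s : S => (χ : H → ℂ) (j s)) (θ : S → ℂ)]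
          congr 1
          · funext g
            show (χ : H → ℂ) (j g ^ k) = (χ : H → ℂ) (j (g ^ k))
            rw [map_pow]
          · funext g
            exact (hθc k hkN hkp g).symm
        rw [hr, hr] at h2
        exact_mod_cast h2
      have h4 : m χ * r χ θ + m χ' * r χ' θ ≤ ∑ ψ : IrrCharacter H, m ψ * r ψ θ := by
        have h5 : ∑ ψ ∈ ({χ, χ'} : Finset (IrrCharacter H)), m ψ * r ψ θ ≤ ∑ ψ : IrrCharacter H, m ψ * r ψ θ :=
          Finset.sum_le_sum_of_subset (Finset.subset_univ _)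
        rw [Finset.sum_pair (fun h => heq h.symm)] at h5
        exact h5
      have hpos : 0 < m χ * r χ θ := Nat.mul_pos (Nat.pos_of_ne_zero hχm) (Nat.pos_of_ne_zero hθ)
      rw [h1, h3, hone'] at h4
      omega
  · by_cases h : r χ θ = 0
    · left
      rw [hr, h, Nat.cast_zero]
    · right
      obtain ⟨-, h1, h2, h3⟩ := key θ h
      exact ⟨by rw [hr, h1, Nat.cast_one], h2, h3⟩

end cyc

section ext

variable {p : ℕ} [hp : Fact p.Prime] {M : Ideal AlgInt} {G : Type u} [Group G] [Finite G]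

/-- **the canonical extension** over a normal subgroup of `p`-power index is cyclotomic -/
theorem exists_ext_cyc (N : Subgroup G) [hN : N.Normal] (hidx : ∃ k, N.index = p ^ k) (η : IrrCharacter N)
    (hdeg : ¬ p ∣ charDegree (η : N → ℂ)) (hdet : ¬ p ∣ detOrder (η : N → ℂ))
    (hinv : ∀ (g : G) (n : N), (η : N → ℂ) ⟨g * n * g⁻¹, hN.conj_mem (n : G) n.2 g⟩ = (η : N → ℂ) n)
    (hcyc : Cyc p (η : N → ℂ)) :
    ∃ χ : IrrCharacter G, (∀ n : N, (χ : G → ℂ) n = (η : N → ℂ) n) ∧ Cyc p (χ : G → ℂ) := by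
  obtain ⟨k, hk⟩ := hidx
  have hcop : ∀ n : ℕ, ¬ p ∣ n → Nat.Coprime N.index n := by
    intro n hn
    rw [hk]
    exact Nat.Coprime.pow_left k ((Nat.Prime.coprime_iff_not_dvd hp.out).2 hn)
  obtain ⟨χ, ⟨h1, h2, h3⟩, h4⟩ := S0867.result N (η : N → ℂ) η.2 hinv (charDegree (η : N → ℂ))
    (charDegree_cast' η) (hcop _ (fun h => ((Nat.Prime.dvd_mul hp.out).1 h).elim hdet hdeg))
  refine ⟨⟨χ, h1⟩, h2, fun m hm hmp => ?_⟩
  have hG : Nat.card G ≠ 0 := Nat.card_pos.ne'
  obtain ⟨σ, hσ⟩ := Characters.GaloisBasic.exists_ringEquiv_pow hG hm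
  have h5 : ∀ g : G, σ (χ g) = χ (g ^ m) := fun g =>
    Characters.GaloisBasic.map_apply_card σ (fun z hz => hσ z hz) (Core.isIrr_isCharacter h1) g
  have h6 : (fun g => σ (χ g)) = fun g => χ (g ^ m) := funext h5
  have h7 := h4 (fun g => χ (g ^ m)) (Cfsg.Agent.Characters.GaloisIrr.isIrr_pow hm h1) (fun n => by
    have h8 : χ ((n : G) ^ m) = (η : N → ℂ) (n ^ m) := h2 (n ^ m)
    rw [h8]
    exact hcyc m (hm.coprime_dvd_right (card_subgroup_dvd_card N)) hmp n) (by
    rw [← h6, H594.Cyclic.detOrder_map σ h1, h3]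
    exact hcop _ hdet)
  exact fun g => congrFun h7 g

/-- the determinantal order of a character of `N` if `N` has a normal subgroup `T` of `p'`-index killed by all linear
characters -/
theorem not_dvd_detOrder {N : Type u} [Group N] [Finite N] (T : Subgroup N) [T.Normal] (hTi : ¬ p ∣ T.index)
    (hTl : ∀ δ : N →* ℂˣ, ∀ t ∈ T, δ t = 1) (η : IrrCharacter N) : ¬ p ∣ detOrder (η : N → ℂ) := by
  obtain ⟨δ, hδ⟩ := Cfsg.Agent.CharactersDeep.ExtUnique.exists_hom_detChar η.2
  have h1 : detOrder (η : N → ℂ) ∣ T.index := by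
    show orderOf (detChar (η : N → ℂ)) ∣ T.index
    apply orderOf_dvd_of_pow_eq_one
    funext g
    rw [Pi.pow_apply, hδ, ← Units.val_pow_eq_pow_val, ← map_pow, hTl δ _ (T.pow_index_mem g)]
    simp
  exact fun h => hTi (h.trans h1)

/-- `G = N P` -/
theorem exists_mul_of_index (N : Subgroup G) [hN : N.Normal] (hidx : ∃ k, N.index = p ^ k) (P : Sylow p G) (g : G) :
    ∃ n ∈ N, ∃ u ∈ (P : Subgroup G), n * u = g := by
  have h1 : N ⊔ (P : Subgroup G) = ⊤ := by
    obtain ⟨k, hk⟩ := hidx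
    have h2 : (N ⊔ (P : Subgroup G)).index ∣ p ^ k := hk ▸ index_dvd_of_le le_sup_left
    have h3 : ¬ p ∣ (N ⊔ (P : Subgroup G)).index := fun h => P.not_dvd_index (h.trans (index_dvd_of_le le_sup_right))
    obtain ⟨l, -, hl⟩ := (Nat.dvd_prime_pow hp.out).1 h2
    rcases Nat.eq_zero_or_pos l with h0 | h0
    · rw [h0, pow_zero] at hl
      exact index_eq_one.1 hl
    · exact absurd (hl ▸ dvd_pow_self p h0.ne') h3
  have h2 : g ∈ N ⊔ (P : Subgroup G) := h1 ▸ mem_top g
  exact mem_sup_of_normal_left.1 h2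

/-- at elements of the centre of a Sylow normalizer the characters of the principal block are congruent to their
degrees -/
theorem loc_b (hM : IsPModular p M) {χ : IrrCharacter G} (hχ : χ ∈ principalBlock M G) {y : G}
    (hy : ¬ p ∣ (centralizer ({y} : Set G)).index) : MemLocalIdeal M ((χ : G → ℂ) y - (χ : G → ℂ) 1) := by
  have hMp := isPrime_of_isPModular hM
  have h1 : (χ : G → ℂ) 1 = (charDegree (χ : G → ℂ) : ℂ) := charDegree_cast' χ
  set i := (centralizer ({y} : Set G)).index with hi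
  have hi0 : (i : ℂ) ≠ 0 := by
    intro h0
    have h3 : i = 0 := by exact_mod_cast h0
    rw [h3] at hy
    exact hy (dvd_zero p)
  have hd0 : ((charDegree (χ : G → ℂ) : ℕ) : ℂ) ≠ 0 := h1 ▸ apply_one_ne_zero χ
  have h4 : MemLocalIdeal M (centralChar (fun _ : G => (1 : ℂ)) y - centralChar (χ : G → ℂ) y) := hχ y
  have h3 : (χ : G → ℂ) y - (χ : G → ℂ) 1 = (i : ℂ)⁻¹ * (-((charDegree (χ : G → ℂ) : ℕ) : ℂ) *
      (centralChar (fun _ : G => (1 : ℂ)) y - centralChar (χ : G → ℂ) y)) := by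
    unfold centralChar
    rw [← hi, h1]
    field_simp
    ring
  rw [h3]
  exact memLocalIdeal_mul_left (memLocalRing_inv_natCast hM hy) (memLocalIdeal_mul_left
    (memLocalRing_neg (memLocalRing_natCast _)) h4)

/-- **the invariant constituent** of an invariant character of `N` in the principal block, and its extension -/
theorem exists_good (hM : IsPModular p M) (N : Subgroup G) [hN : N.Normal] [Fintype N] (hidx : ∃ k, N.index = p ^ k)
    (T : Subgroup N) [T.Normal] (hTi : ¬ p ∣ T.index) (hTl : ∀ δ : N →* ℂˣ, ∀ t ∈ T, δ t = 1)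
    {Ψ : N → ℂ} (hΨ : IsCharacter N Ψ) (hdeg : ∃ d : ℕ, Ψ 1 = d ∧ ¬ p ∣ d)
    (hone : classInner Ψ (fun _ => 1) = 0) (Q : Sylow p N)
    (hv : ∀ y ∈ centralizer ((Q : Subgroup N) : Set N), ¬ p ∣ orderOf y → MemLocalIdeal M (Ψ 1 - Ψ y))
    (hinv : ∀ (g : G) (n : N), Ψ ⟨g * n * g⁻¹, hN.conj_mem (n : G) n.2 g⟩ = Ψ n)
    (hcyc : ∀ η : IrrCharacter N, classInner Ψ (η : N → ℂ) ≠ 0 → Cyc p (η : N → ℂ)) :
    ∃ (χ : IrrCharacter G) (η : IrrCharacter N), (∀ n : N, (χ : G → ℂ) n = (η : N → ℂ) n) ∧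
      η ∈ principalBlock M N ∧ ¬ p ∣ charDegree (η : N → ℂ) ∧ classInner Ψ (η : N → ℂ) ≠ 0 ∧
      Cyc p (χ : G → ℂ) := by
  classical
  have : Finite (IrrCharacter N) := Core.finite_irr
  have := Fintype.ofFinite (IrrCharacter N)
  obtain ⟨m, hm⟩ := Core.isCharacter_iff.1 hΨ
  have hm' : ∀ g, Ψ g = ∑ χ : IrrCharacter N, (((m χ : ℤ)) : ℂ) * (χ : N → ℂ) g := by
    intro g
    conv_lhs => rw [hm]
    rw [Finset.sum_apply]
    refine Finset.sum_congr rfl fun χ _ => ?_
    rw [Pi.smul_apply, nsmul_eq_mul, Int.cast_natCast]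
  have hmul : ∀ χ : IrrCharacter N, classInner Ψ (χ : N → ℂ) = (m χ : ℂ) := by
    intro χ
    rw [hm, Core.classInner_sum_left, Finset.sum_eq_single χ]
    · rw [← Nat.cast_smul_eq_nsmul ℂ, Core.classInner_smul_left, Core.classInner_irr_self χ.2, mul_one]
    · intro ψ _ hψ
      rw [← Nat.cast_smul_eq_nsmul ℂ, Core.classInner_smul_left,
        Core.classInner_irr_ne ψ.2 χ.2 (fun h => hψ (Subtype.ext h)), mul_zero]
    · intro h
      exact absurd (Finset.mem_univ _) h
  obtain ⟨d, hd, hpd⟩ := hdeg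
  have hsum := H125.PC.b0_sum hM Q hΨ (fun χ => (m χ : ℤ)) hm' hv
  have hd' : (∑ χ : IrrCharacter N, (m χ : ℤ) * (charDegree (χ : N → ℂ) : ℤ)) = (d : ℤ) := by
    have h1 := hm' 1
    rw [hd] at h1
    have h2 : ((∑ χ : IrrCharacter N, (m χ : ℤ) * (charDegree (χ : N → ℂ) : ℤ) : ℤ) : ℂ) = ((d : ℤ) : ℂ) := by
      rw [Int.cast_natCast, h1, Int.cast_sum]
      refine Finset.sum_congr rfl fun χ _ => ?_
      rw [Int.cast_mul, charDegree_cast']
      rfl
    exact_mod_cast h2
  obtain ⟨P⟩ : Nonempty (Sylow p G) := inferInstance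
  set A : Subgroup (MulAut N) := (P : Subgroup G).map (MulAut.conjNormal : G →* MulAut N) with hA
  have hAp : IsPGroup p A := P.2.map _
  have hAinv : ∀ φ ∈ A, ∀ n : N, Ψ (φ n) = Ψ n := by
    rintro _ ⟨u, -, rfl⟩ n
    exact hinv u n
  have hk' : ∀ φ ∈ A, ∀ χ : IrrCharacter N, (m (φ • χ) : ℤ) = m χ := by
    intro φ hφ χ
    have h1 : classInner Ψ ((φ • χ : IrrCharacter N) : N → ℂ) = classInner Ψ (χ : N → ℂ) := by
      rw [Core.classInner_def, Core.classInner_def]
      congr 1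
      rw [← Equiv.sum_comp φ.toEquiv]
      refine Finset.sum_congr rfl fun n _ => ?_
      have h2 : ((φ • χ : IrrCharacter N) : N → ℂ) (φ n) = (χ : N → ℂ) ((φ⁻¹ : MulAut N) (φ n)) := rfl
      have h3 : (φ⁻¹ : MulAut N) (φ n) = n := MulAut.inv_apply_self N φ n
      show Ψ (φ n) * conj (((φ • χ : IrrCharacter N) : N → ℂ) (φ n)) = _
      rw [h2, h3, hAinv φ hφ]
    rw [hmul, hmul] at h1
    have h2 : m (φ • χ) = m χ := by exact_mod_cast h1
    rw [h2]
  have hone0 : m (H893.Sd.one N) = 0 := by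
    have h1 := hmul (H893.Sd.one N)
    have h2 : ((H893.Sd.one N : IrrCharacter N) : N → ℂ) = fun _ => 1 := rfl
    rw [h2, hone] at h1
    exact_mod_cast h1.symm
  obtain ⟨η, hη1, -, hη2, hη3, hη4⟩ := exists_fixed_of_sum hM (fun χ => (m χ : ℤ)) A hAp hk' (by
    rw [hd'] at hsum
    intro h
    have h1 := hsum.trans h
    rw [hone0, Nat.cast_zero] at h1
    exact hpd (Int.natCast_dvd_natCast.1 (Int.modEq_zero_iff_dvd.1 h1)))
  have hη3' : classInner Ψ (η : N → ℂ) ≠ 0 := by
    rw [hmul]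
    exact_mod_cast hη3
  have hηinv : ∀ (g : G) (n : N), (η : N → ℂ) ⟨g * n * g⁻¹, hN.conj_mem (n : G) n.2 g⟩ = (η : N → ℂ) n := by
    intro g n
    obtain ⟨x, hx, y, hy, rfl⟩ := exists_mul_of_index N hidx P g
    have h1 := hη4 (MulAut.conjNormal y) (mem_map_of_mem _ hy) n
    have h2 := Core.isIrr_isClassFunction η.2 (MulAut.conjNormal y n) ⟨x, hx⟩
    rw [← h1, ← h2]
    refine congrArg (η : N → ℂ) (Subtype.ext ?_)
    show x * y * n * (x * y)⁻¹ = x * (y * n * y⁻¹) * x⁻¹
    group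
  obtain ⟨χ, hχ1, hχ2⟩ := exists_ext_cyc N hidx η hη2 (not_dvd_detOrder T hTi hTl η) hηinv (hcyc η hη3')
  exact ⟨χ, η, hχ1, hη1, hη2, hη3', hχ2⟩

end ext

section row

variable {p : ℕ} [hp : Fact p.Prime] {S : Type u} [Group S] [Fintype S]

theorem mul_eq_inner {ψ θ : S → ℂ} : H770.CY.mul ψ θ = classInner ψ θ := by
  rw [Core.classInner_def]
  rfl

/-- a nonabelian simple group has no nontrivial linear characters -/
theorem hom_trivial [IsSimpleGroup S] (hna : ¬ IsMulCommutative S) {C : Type v} [CommGroup C] (δ : S →* C) (s : S) :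
    δ s = 1 := by
  rcases δ.normal_ker.eq_bot_or_eq_top with h | h
  · exfalso
    apply hna
    refine ⟨⟨fun a b => ?_⟩⟩
    apply (MonoidHom.ker_eq_bot_iff δ).1 h
    rw [map_mul, map_mul, mul_comm]
  · exact (MonoidHom.mem_ker (f := δ)).1 (h ▸ mem_top s)

/-- a nonabelian simple group has trivial centre: an automorphism commuting with the inner automorphism of `x` fixes
`x` -/
theorem fix_of_comm [IsSimpleGroup S] (hna : ¬ IsMulCommutative S) {a : MulAut S} {x : S}
    (h : a * MulAut.conj x = MulAut.conj x * a) : a x = x := by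
  have hz : center S = ⊥ := by
    rcases (inferInstance : (center S).Normal).eq_bot_or_eq_top with h | h
    · exact h
    · exfalso
      apply hna
      exact ⟨⟨fun a b => (mem_center_iff.1 (h ▸ mem_top a : a ∈ center S) b).symm⟩⟩
  have h1 : ∀ y : S, a x * a y * (a x)⁻¹ = x * a y * x⁻¹ := by
    intro y
    have h2 := congrArg (fun f : MulAut S => f y) h
    have h3 : a (x * y * x⁻¹) = x * a y * x⁻¹ := h2
    rw [← h3, map_mul, map_mul, map_inv]
  have h2 : x⁻¹ * a x ∈ center S := by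
    rw [mem_center_iff]
    intro y
    obtain ⟨z, rfl⟩ := a.surjective y
    have h3 := h1 z
    have h4 : x⁻¹ * (a x * a z * (a x)⁻¹) * a x = x⁻¹ * (x * a z * x⁻¹) * a x := by rw [h3]
    have h5 : x⁻¹ * a x * a z = a z * (x⁻¹ * a x) := by
      calc x⁻¹ * a x * a z = x⁻¹ * (a x * a z * (a x)⁻¹) * a x := by group
        _ = x⁻¹ * (x * a z * x⁻¹) * a x := h4
        _ = a z * (x⁻¹ * a x) := by group
    exact h5.symm
  rw [hz, mem_bot] at h2
  exact (inv_mul_eq_one.1 h2).symm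

/-- **Lemma L6.** `RowA p S` from `A`-invariant witnesses on the normal `p`-complement `X` of `A` modulo `Inn S`. -/
theorem rowA_of_compl [IsSimpleGroup S] (hna : ¬ IsMulCommutative S)
    (h : ∀ (A X : Subgroup (MulAut S)) (hX : ∀ s : S, MulAut.conj s ∈ X), X ≤ A →
      (∀ a ∈ A, ∀ x ∈ X, a * x * a⁻¹ ∈ X) → ¬ p ∣ (MulAut.conj : S →* MulAut S).range.relIndex X →
      (∃ k : ℕ, X.relIndex A = p ^ k) → ∀ M : Ideal AlgInt, IsPModular p M →
      ∃ Ψ : X → ℂ, WitA p M S X hX Ψ ∧ ∀ a ∈ A, ∀ x y : X, (y : MulAut S) = a * x * a⁻¹ → Ψ y = Ψ x) :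
    RowA p S := by
  classical
  rintro A ⟨hIA, X, hXA, hIX, hnorm, hpX, hk⟩ M hM
  obtain ⟨Ψ₀, hW, hWinv⟩ := h A X hIX hXA hnorm hpX hk M hM
  have hMp := isPrime_of_isPModular hM
  have : Finite (MulAut S) := inferInstance
  -- the groups
  set N : Subgroup A := X.subgroupOf A with hN
  have hNn : N.Normal := ⟨fun n hn g => by
    show (g * n * g⁻¹ : A).1 ∈ X
    exact hnorm g g.2 n hn⟩
  let e : N ≃* X := subgroupOfEquivOfLe hXA
  have := Fintype.ofFinite N
  have := Fintype.ofFinite X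
  have := Fintype.ofFinite A
  have hidx : ∃ k, N.index = p ^ k := hk
  let j : S →* N :=
    { toFun := fun s => ⟨⟨MulAut.conj s, hIA s⟩, hIX s⟩
      map_one' := by
        apply Subtype.ext
        apply Subtype.ext
        exact map_one MulAut.conj
      map_mul' := fun a b => by
        apply Subtype.ext
        apply Subtype.ext
        exact map_mul MulAut.conj a b }
  have hej : ∀ s : S, e (j s) = ⟨MulAut.conj s, hIX s⟩ := fun s => rfl
  have hjinj : Function.Injective j := by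
    intro a b hab
    have h1 : MulAut.conj a = MulAut.conj b := congrArg (fun n : N => ((n : A) : MulAut S)) hab
    have h2 : MulAut.conj (a * b⁻¹) = 1 := by rw [map_mul, map_inv, h1, mul_inv_cancel]
    have hz : a * b⁻¹ ∈ center S := by
      rw [mem_center_iff]
      intro y
      have h3 := congrArg (fun f : MulAut S => f y) h2
      have h4 : (a * b⁻¹) * y * (a * b⁻¹)⁻¹ = y := h3
      exact (mul_inv_eq_iff_eq_mul.1 h4).symm
    have hz2 : center S = ⊥ := by
      rcases (inferInstance : (center S).Normal).eq_bot_or_eq_top with h | h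
      · exact h
      · exfalso
        apply hna
        exact ⟨⟨fun a b => (mem_center_iff.1 (h ▸ mem_top a : a ∈ center S) b).symm⟩⟩
    rw [hz2, mem_bot] at hz
    exact mul_inv_eq_one.1 hz
  -- the inner automorphisms
  have hTn : j.range.Normal := ⟨by
    rintro _ ⟨s, rfl⟩ g
    refine ⟨((g : A) : MulAut S) s, ?_⟩
    apply Subtype.ext
    apply Subtype.ext
    ext y
    show ((g : A) : MulAut S) s * y * (((g : A) : MulAut S) s)⁻¹ =
      ((g : A) : MulAut S) (s * (((g : A) : MulAut S)⁻¹ : MulAut S) y * s⁻¹)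
    rw [map_mul, map_mul, map_inv, MulAut.apply_inv_self]⟩
  have hTi : ¬ p ∣ j.range.index := by
    have h1 : j.range = (MulAut.conj : S →* MulAut S).range.comap (A.subtype.comp N.subtype) := by
      ext n
      constructor
      · rintro ⟨s, rfl⟩
        exact ⟨s, rfl⟩
      · rintro ⟨s, hs⟩
        refine ⟨s, ?_⟩
        apply Subtype.ext
        apply Subtype.ext
        exact hs
    have h2 : (A.subtype.comp N.subtype).range = X := by
      rw [MonoidHom.range_comp, range_subtype, hN]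
      exact map_subgroupOf_eq_of_le hXA
    rw [h1, index_comap, h2]
    exact hpX
  have hTl : ∀ δ : N →* ℂˣ, ∀ t ∈ j.range, δ t = 1 := by
    rintro δ _ ⟨s, rfl⟩
    exact hom_trivial hna (δ.comp j) s
  -- the character
  set Ψ : N → ℂ := fun n => Ψ₀ (e n) with hΨdef
  have hΨ : IsCharacter N Ψ := Core.isCharacter_comp (e : N →* X) hW.char
  have hcardNX : Nat.card N = Nat.card X := Nat.card_congr e.toEquiv
  have hΨcyc : ∀ k : ℕ, Nat.Coprime k (Nat.card N) → k ≡ 1 [MOD p] → ∀ g : N, Ψ (g ^ k) = Ψ g := by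
    intro k hk hkp g
    show Ψ₀ (e (g ^ k)) = Ψ₀ (e g)
    rw [map_pow]
    exact hW.cyc k (hcardNX ▸ hk) hkp (e g)
  have hmf : ∀ θ : IrrCharacter S, classInner (fun s : S => Ψ (j s)) (θ : S → ℂ) = 0 ∨
      (classInner (fun s : S => Ψ (j s)) (θ : S → ℂ) = 1 ∧ (θ : S → ℂ) ≠ (fun _ => 1) ∧ Cyc p (θ : S → ℂ)) := by
    intro θ
    have h1 := hW.mf θ
    rw [mul_eq_inner] at h1
    exact h1
  have hcard : Nat.card S ∣ Nat.card N := by
    rw [Nat.card_congr (MonoidHom.ofInjective hjinj).toEquiv]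
    exact card_subgroup_dvd_card _
  have hcons : ∀ η : IrrCharacter N, classInner Ψ (η : N → ℂ) ≠ 0 → _ := fun η hη =>
    constituent j hcard hΨ hΨcyc hmf η hη
  have hone : classInner Ψ (fun _ => 1) = 0 := by
    by_contra hne
    have h1 := (hcons (H893.Sd.one N) hne).2 (H893.Sd.one S)
    have h2 : classInner (fun s : S => ((H893.Sd.one N : IrrCharacter N) : N → ℂ) (j s))
        ((H893.Sd.one S : IrrCharacter S) : S → ℂ) = 1 := Core.classInner_irr_self (H893.Sd.one S).2
    rcases h1 with h1 | ⟨-, h1, -⟩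
    · rw [h2] at h1
      exact one_ne_zero h1
    · exact h1 rfl
  -- the Sylow subgroup
  obtain ⟨Q'⟩ : Nonempty (Sylow p S) := inferInstance
  have hQi : ∀ Q' : Sylow p S, ¬ p ∣ ((Q' : Subgroup S).map j).index := by
    intro Q'
    rw [index_map_of_injective _ hjinj, hp.out.dvd_mul]
    rintro (h | h)
    · exact Q'.not_dvd_index h
    · exact hTi h
  let Q : Sylow p N := (Q'.2.map j).toSylow (hQi Q')
  have hv : ∀ y ∈ centralizer ((Q : Subgroup N) : Set N), ¬ p ∣ orderOf y → MemLocalIdeal M (Ψ 1 - Ψ y) := by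
    intro y hy hpy
    have h1 : ¬ p ∣ orderOf (e y) := by rwa [MulEquiv.orderOf_eq]
    have h2 : ∀ x ∈ Q', ((e y : X) : MulAut S) x = x := by
      intro x hx
      refine fix_of_comm hna ?_
      have h3 := mem_centralizer_iff.1 hy (j x) (mem_map_of_mem j hx)
      exact (congrArg (fun n : N => ((n : A) : MulAut S)) h3).symm
    have h3 := hW.loc (e y) h1 ⟨Q', h2⟩
    have h4 := memLocalIdeal_neg h3
    rw [neg_sub] at h4
    have h5 : Ψ 1 = Ψ₀ 1 := by
      show Ψ₀ (e 1) = Ψ₀ 1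
      rw [map_one]
    rw [h5]
    exact h4
  have hinv : ∀ (g : A) (n : N), Ψ ⟨g * n * g⁻¹, hNn.conj_mem (n : A) n.2 g⟩ = Ψ n := by
    intro g n
    exact hWinv g g.2 (e n) (e ⟨g * n * g⁻¹, hNn.conj_mem (n : A) n.2 g⟩) rfl
  obtain ⟨χ, η, hχη, hηB, hηp, hηne, hχc⟩ := exists_good hM N hidx j.range hTi hTl hΨ (by
    obtain ⟨d, hd, hpd⟩ := hW.deg
    refine ⟨d, ?_, hpd⟩
    rw [← hd]
    show Ψ₀ (e 1) = Ψ₀ 1
    rw [map_one]) hone Q hv hinv (fun η hη => (hcons η hη).1)
  have h1 : (χ : A → ℂ) 1 = (charDegree (η : N → ℂ) : ℂ) := by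
    rw [← charDegree_cast' η]
    exact hχη 1
  refine ⟨(χ : A → ℂ), Core.isIrr_isCharacter χ.2, hχc, ⟨_, h1, hηp⟩, ?_, ?_⟩
  · intro θ
    have h2 := (hcons η hηne).2 θ
    have h3 : res hIA (χ : A → ℂ) = fun s : S => (η : N → ℂ) (j s) := funext fun s => hχη (j s)
    rw [h3, mul_eq_inner]
    exact h2
  · intro a hpa ⟨Q₁, hQ₁⟩
    -- `a` lies in `N`
    have haN : a ∈ N := by
      obtain ⟨k, hk⟩ := hidx
      have h2 : orderOf (QuotientGroup.mk a : A ⧸ N) ∣ p ^ k := by
        rw [← hk, index_eq_card]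
        exact orderOf_dvd_natCard _
      have h3 : orderOf (QuotientGroup.mk a : A ⧸ N) ∣ orderOf a := orderOf_map_dvd (QuotientGroup.mk' N) a
      obtain ⟨l, -, hl⟩ := (Nat.dvd_prime_pow hp.out).1 h2
      have h4 : l = 0 := by
        by_contra hne
        exact hpa ((hl ▸ dvd_pow_self p hne).trans h3)
      rw [h4, pow_zero, orderOf_eq_one_iff] at hl
      exact (QuotientGroup.eq_one_iff a).1 hl
    have h2 : (χ : A → ℂ) a = (η : N → ℂ) ⟨a, haN⟩ := hχη ⟨a, haN⟩
    have h3 : (χ : A → ℂ) 1 = (η : N → ℂ) 1 := hχη 1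
    rw [h2, h3]
    refine loc_b hM hηB ?_
    have h4 : (Q₁ : Subgroup S).map j ≤ centralizer ({(⟨a, haN⟩ : N)} : Set N) := by
      rintro _ ⟨x, hx, rfl⟩
      rw [mem_centralizer_singleton_iff]
      apply Subtype.ext
      apply Subtype.ext
      ext y
      have h5 := hQ₁ x hx
      show x * (a : MulAut S) y * x⁻¹ = (a : MulAut S) (x * y * x⁻¹)
      rw [map_mul, map_mul, map_inv, h5]
    exact fun h5 => hQi Q₁ (h5.trans (index_dvd_of_le h4))

end row

end Cfsg.Agent.H362.CY
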